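import Cfsg.Agent.Lib.AbPrincipal.Core
import Cfsg.Agent.Lib.AbPrincipal.Counts
import Cfsg.Agent.Lib.Blocks.TwoChars
import Cfsg.Agent.S4511

/-!
# Principal blocks with few characters: counting
-/

namespace CfsgLib.Blocks.FewChars

open Cfsg CfsgLib.CharTheory CfsgLib.Blocks

set_option linter.unusedVariables false
set_option linter.style.haveILetI false
set_option linter.unusedSectionVars false

universe u

variable {p : ℕ} {M : Ideal AlgInt} {G : Type u} [Group G] [Fintype G]

theorem lc_pos (hM : IsPModular p M) (x : G) : 0 < AbPrincipal.lc p M x := by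
  haveI := Fintype.ofFinite (Subgroup.centralizer ({x} : Set G))
  exact blockRank_pos hM principalBlock_isPBlock

/-- Representatives of the nontrivial classes of `p`-elements. -/
theorem exists_reps (p : ℕ) (G : Type u) [Group G] [Fintype G] :
    ∃ Y : Finset G, (∀ x ∈ Y, x ≠ 1 ∧ ∃ k : ℕ, orderOf x = p ^ k) ∧
      ∀ g : G, g ≠ 1 → (∃ k : ℕ, orderOf g = p ^ k) → ∃! x, x ∈ Y ∧ IsConj g x := by
  classical
  refine ⟨Finset.univ.filter fun x : G => (x ≠ 1 ∧ ∃ k : ℕ, orderOf x = p ^ k) ∧
    Quotient.out (ConjClasses.mk x) = x, fun x hx => (Finset.mem_filter.1 hx).2.1,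
    fun g hg1 hg => ?_⟩
  set y := Quotient.out (ConjClasses.mk g) with hy
  have hgy : IsConj g y := ConjClasses.mk_eq_mk_iff_isConj.1 (Quotient.out_eq (ConjClasses.mk g)).symm
  refine ⟨y, ⟨Finset.mem_filter.2 ⟨Finset.mem_univ _, ⟨?_, ?_⟩, ?_⟩, hgy⟩, ?_⟩
  · intro h
    rw [h] at hgy
    exact hg1 (isConj_one_left.1 hgy)
  · obtain ⟨c, hc⟩ := isConj_iff.1 hgy
    obtain ⟨k, hk⟩ := hg
    exact ⟨k, by rw [← hc, conj_orderOf, hk]⟩
  · rw [← ConjClasses.mk_eq_mk_iff_isConj.2 hgy]
  · rintro x ⟨hx, hgx⟩
    rw [← (Finset.mem_filter.1 hx).2.2, ← ConjClasses.mk_eq_mk_iff_isConj.2 hgx]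

/-- Brauer's count for the principal block. -/
theorem count [Fact p.Prime] (hM : IsPModular p M) (Y : Finset G)
    (hY : ∀ x ∈ Y, x ≠ 1 ∧ ∃ k : ℕ, orderOf x = p ^ k)
    (hrep : ∀ g : G, g ≠ 1 → (∃ k : ℕ, orderOf g = p ^ k) → ∃! x, x ∈ Y ∧ IsConj g x) :
    Nat.card (principalBlock M G) =
      blockRank p (principalBlock M G) + ∑ x ∈ Y, AbPrincipal.lc p M x := by
  classical
  have h1Y : (1 : G) ∉ Y := fun h => (hY 1 h).1 rfl
  have hX : ∀ x ∈ insert (1 : G) Y, ∃ k : ℕ, orderOf x = p ^ k := by
    intro x hx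
    rcases Finset.mem_insert.1 hx with rfl | hx
    · exact ⟨0, by simp⟩
    · exact (hY x hx).2
  have h := Cfsg.Agent.S4511.result p M hM (principalBlock M G) principalBlock_isPBlock
    (insert 1 Y) hX (fun g hg => ?_)
  · rw [h, ← AbPrincipal.lc_of_mem_center hM (one_mem (Subgroup.center G)),
      ← Finset.sum_insert h1Y]
    refine Finset.sum_congr rfl fun x hx => ?_
    haveI := Fintype.ofFinite (Subgroup.centralizer ({x} : Set G))
    have hov := overBlocks_principal hM (isCentr_singleton x) (hX x hx) (M := M)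
    have hset : {b : Set (IrrCharacter (Subgroup.centralizer ({x} : Set G))) |
        IsInducedBlock M (Subgroup.centralizer ({x} : Set G)) b (principalBlock M G)} =
        {principalBlock M (Subgroup.centralizer ({x} : Set G))} := by
      ext b
      constructor
      · intro hb
        obtain ⟨ψ, hψ⟩ := block_nonempty hM hb.1
        have e := eq_blockOf hM hb.1 hψ
        have h2 : ψ ∈ overBlocks M (Subgroup.centralizer ({x} : Set G)) (principalBlock M G) := by
          show IsInducedBlock M _ (blockOf M _) _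
          rwa [← e]
        rw [hov] at h2
        exact e.trans (eq_blockOf hM principalBlock_isPBlock h2).symm
      · intro hb
        rw [Set.mem_singleton_iff] at hb
        subst hb
        have h2 : oneIrr (Subgroup.centralizer ({x} : Set G)) ∈
            overBlocks M (Subgroup.centralizer ({x} : Set G)) (principalBlock M G) :=
          hov.symm ▸ oneIrr_mem hM
        have h3 : IsInducedBlock M _ (blockOf M _) _ := h2
        rwa [← eq_blockOf hM principalBlock_isPBlock (oneIrr_mem hM)] at h3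
    rw [hset, finsum_mem_singleton]
    rfl
  · by_cases hg1 : g = 1
    · subst hg1
      exact ⟨1, ⟨Finset.mem_insert_self _ _, IsConj.refl _⟩,
        fun x hx => isConj_one_right.1 hx.2⟩
    · obtain ⟨x, ⟨hxY, hgx⟩, huniq⟩ := hrep g hg1 hg
      refine ⟨x, ⟨Finset.mem_insert_of_mem hxY, hgx⟩, fun y hy => huniq y ⟨?_, hy.2⟩⟩
      rcases Finset.mem_insert.1 hy.1 with rfl | hyY
      · exact absurd (isConj_one_left.1 hy.2) hg1
      · exact hyY

/-- A finite `p`-group with at most four classes is abelian. -/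
theorem comm_of_classes_le_four [Fact p.Prime] {Q : Type u} [Group Q] [Finite Q] (hQ : IsPGroup p Q)
    (h : Nat.card (ConjClasses Q) ≤ 4) (a b : Q) : a * b = b * a := by
  classical
  haveI := Fintype.ofFinite Q
  by_contra hab
  set Z := Subgroup.center Q with hZ
  haveI : Nontrivial Q := ⟨⟨a, b, fun e => hab (by rw [e])⟩⟩
  haveI := hQ.center_nontrivial
  have hZ2 : 2 ≤ Nat.card Z := Finite.one_lt_card
  have hlt : ∀ g : Q, g ∉ Z → Z < Subgroup.centralizer ({g} : Set Q) := by
    intro g hg
    refine lt_of_le_of_ne (Subgroup.center_le_centralizer _) fun e => hg ?_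
    rw [e]
    exact Subgroup.mem_centralizer_singleton_iff.2 rfl
  have h2 : ∀ K L : Subgroup Q, K < L → 2 * Nat.card K ≤ Nat.card L := by
    intro K L hKL
    obtain ⟨d, hd⟩ := Subgroup.card_dvd_of_le hKL.le
    have hne : d ≠ 1 := fun e => hKL.ne (Subgroup.eq_of_le_of_card_ge hKL.le (by
      rw [hd, e, mul_one]))
    have hd0 : d ≠ 0 := fun e => by
      rw [e, mul_zero] at hd
      exact Nat.card_pos.ne' hd
    calc 2 * Nat.card K ≤ d * Nat.card K := Nat.mul_le_mul_right _ (by omega)
      _ = Nat.card L := by rw [hd, mul_comm]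
  have haZ : a ∉ Z := fun e => hab (Subgroup.mem_center_iff.1 e b).symm
  have htop : Subgroup.centralizer ({a} : Set Q) < ⊤ := lt_top_iff_ne_top.2 fun e => haZ <|
    Subgroup.mem_center_iff.2 fun g => Subgroup.mem_centralizer_singleton_iff.1
      (e ▸ Subgroup.mem_top g)
  have h4 : 4 * Nat.card Z ≤ Nat.card Q := by
    have e1 := h2 _ _ (hlt a haZ)
    have e2 := h2 _ _ htop
    rw [Subgroup.card_top] at e2
    omega
  have hpairs : Nat.card { q : Q × Q // Commute q.1 q.2 } =
      ∑ g : Q, Nat.card (Subgroup.centralizer ({g} : Set Q)) := by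
    rw [← Nat.card_sigma]
    refine Nat.card_congr
      { toFun := fun q => ⟨q.1.1, q.1.2, Subgroup.mem_centralizer_singleton_iff.2 q.2.symm.eq⟩
        invFun := fun s => ⟨(s.1, s.2.1),
          (show Commute (s.2.1 : Q) s.1 from Subgroup.mem_centralizer_singleton_iff.1 s.2.2).symm⟩
        left_inv := fun q => rfl
        right_inv := fun s => rfl }
  rw [card_comm_eq_card_conjClasses_mul_card Q] at hpairs
  have hlow : ∀ g : Q, (if g ∈ Z then Nat.card Q else 2 * Nat.card Z) ≤
      Nat.card (Subgroup.centralizer ({g} : Set Q)) := by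
    intro g
    split_ifs with hg
    · rw [show Subgroup.centralizer ({g} : Set Q) = ⊤ from eq_top_iff.2 fun x _ =>
        Subgroup.mem_centralizer_singleton_iff.2 (Subgroup.mem_center_iff.1 hg x), Subgroup.card_top]
    · exact h2 _ _ (hlt g hg)
  have hsum := (Finset.sum_le_sum fun g (_ : g ∈ Finset.univ) => hlow g).trans_eq hpairs.symm
  rw [Finset.sum_ite, Finset.sum_const, Finset.sum_const, smul_eq_mul, smul_eq_mul] at hsum
  have hc : (Finset.univ.filter fun g : Q => g ∈ Z).card = Nat.card Z := by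
    rw [Nat.card_eq_fintype_card, Fintype.card_subtype]
  have htot := Finset.card_filter_add_card_filter_not (s := (Finset.univ : Finset Q))
    (fun g : Q => g ∈ Z)
  rw [hc, Finset.card_univ, ← Nat.card_eq_fintype_card] at htot
  rw [hc] at hsum
  have hQ0 : 0 < Nat.card Q := Nat.card_pos
  nlinarith [Nat.mul_le_mul_right (Nat.card Q) h, Nat.mul_le_mul_right (Nat.card Q) hZ2,
    Nat.mul_le_mul_left (2 * (Finset.univ.filter fun g : Q => g ∉ Z).card) hZ2]

/-- With one Brauer character and at most four characters, the Sylow subgroup has as many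
elements as the block has characters. -/
theorem card_sylow_of_rank_one [Fact p.Prime] (hM : IsPModular p M)
    (hl : blockRank p (principalBlock M G) = 1)
    (hk : Nat.card (principalBlock M G) ≤ 4) (P : Sylow p G) :
    Nat.card P = Nat.card (principalBlock M G) := by
  classical
  obtain ⟨S, K, hKn, hcpl⟩ := AbPrincipal.complement_of_blockRank hM hl
  haveI := hKn
  have hK : ¬ p ∣ Nat.card K := by
    rw [← hcpl.index_eq_card]
    exact S.not_dvd_index
  have hidx : K.index = Nat.card S := hcpl.symm.index_eq_card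
  obtain ⟨j, hj⟩ := S.2.exists_card_eq
  haveI := Fintype.ofFinite (G ⧸ K)
  have hQ : IsPGroup p (G ⧸ K) := IsPGroup.iff_card.2 ⟨j, by
    rw [← Subgroup.index_eq_card, hidx]; exact hj⟩
  have hQcard : Nat.card (G ⧸ K) = Nat.card S := by rw [← Subgroup.index_eq_card, hidx]
  have hall : principalBlock M (G ⧸ K) = Set.univ := by
    rw [principalBlock_of_complement (G := G ⧸ K) hM (N := ⊥)
      (by rw [Subgroup.card_bot]; exact hM.1.not_dvd_one)
      ⟨j, by rw [Subgroup.index_bot, hQcard]; exact hj⟩]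
    exact Set.eq_univ_of_forall fun χ n hn => by rw [Subgroup.mem_bot.1 hn]
  have hcl : Nat.card (principalBlock M G) = Nat.card (ConjClasses (G ⧸ K)) := by
    rw [← AbPrincipal.card_principalBlock_quot K hM hK, hall, Nat.card_univ,
      card_irr_eq_card_conjClasses]
  have hab := comm_of_classes_le_four hQ (hcl ▸ hk)
  rw [hcl, show Nat.card (ConjClasses (G ⧸ K)) = Nat.card (G ⧸ K) from ?_, hQcard,
    Sylow.card_eq_multiplicity, Sylow.card_eq_multiplicity]
  refine (Nat.card_congr (Equiv.ofBijective ConjClasses.mk ⟨fun x y e => ?_,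
    Quotient.mk_surjective⟩)).symm
  obtain ⟨c, hc⟩ := isConj_iff.1 (ConjClasses.mk_eq_mk_iff_isConj.1 e)
  rw [← hc, hab c x, mul_inv_cancel_right]

end CfsgLib.Blocks.FewChars
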