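import Cfsg.Agent.Lib.Blocks.FewChars.Count
import Cfsg.Agent.Lib.CharTheory.FrobeniusSchur
import Cfsg.Agent.Lib.Blocks.PRationalExtension

/-!
# The column of a section whose centralizer has a normal complement
-/

namespace CfsgLib.Blocks.FewChars

open Cfsg CfsgLib.CharTheory CfsgLib.Blocks
open scoped ComplexConjugate

set_option linter.unusedVariables false
set_option linter.style.haveILetI false
set_option linter.unusedSectionVars false

universe u

variable {p : ℕ} {M : Ideal AlgInt} {G : Type u} [Group G] [Fintype G]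

/-- The Frobenius-Schur number of a character. -/
noncomputable def nu (χ : IrrCharacter G) : ℂ :=
  (Nat.card G : ℂ)⁻¹ * ∑ u : G, (χ : G → ℂ) (u * u)

theorem nu_oneIrr : nu (oneIrr G) = 1 := by
  show (Nat.card G : ℂ)⁻¹ * ∑ u : G, (1 : ℂ) = 1
  rw [Finset.sum_const, Finset.card_univ, nsmul_eq_mul, mul_one, ← Nat.card_eq_fintype_card,
    inv_mul_cancel₀ (Nat.cast_ne_zero.2 Nat.card_pos.ne')]

theorem nu_cases (χ : IrrCharacter G) :
    (conjIrr χ = χ ∧ (nu χ = 1 ∨ nu χ = -1)) ∨ (conjIrr χ ≠ χ ∧ nu χ = 0) := by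
  classical
  obtain ⟨n, ρ, hρ, hρc⟩ := χ.2
  haveI := hρ
  have hG : (Nat.card G : ℂ) ≠ 0 := Nat.cast_ne_zero.2 Nat.card_pos.ne'
  have hinner : classInner (χ : G → ℂ) (conjIrr χ : G → ℂ) =
      (Nat.card G : ℂ)⁻¹ * ∑ s : G, (χ : G → ℂ) s * (χ : G → ℂ) s := by
    simp only [classInner, conjIrr_apply, Complex.conj_conj]
  rw [← hρc] at hinner
  rcases frobenius_schur ρ with ⟨hz, hz2⟩ | ⟨ε, hε, hs, hs2, -⟩
  · right
    refine ⟨fun e => ?_, ?_⟩
    · rw [hz, mul_zero, hρc, e, classInner_irr_self χ.2] at hinner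
      exact one_ne_zero hinner
    · rw [nu, ← hρc, hz2, mul_zero]
  · left
    refine ⟨?_, ?_⟩
    · by_contra e
      rw [hs, inv_mul_cancel₀ hG, hρc,
        classInner_irr_ne χ.2 (conjIrr χ).2 (fun h => e (Subtype.ext h.symm))] at hinner
      exact zero_ne_one hinner
    · rw [nu, ← hρc, hs2, mul_left_comm, inv_mul_cancel₀ hG, mul_one]
      exact hε

theorem conjIrr_principal (hM : IsPModular p M) {χ : IrrCharacter G}
    (hχ : χ ∈ principalBlock M G) : conjIrr χ ∈ principalBlock M G := by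
  have hn : 1 ≤ Nat.card G := Nat.card_pos
  have hk : (Nat.card G - 1).Coprime (Nat.card G) := by
    rw [Nat.coprime_comm, Nat.coprime_self_sub_right hn]
    exact Nat.coprime_one_right _
  have h := PRatExt.powIrr_principal hM hk hχ
  have e : powIrr hk χ = conjIrr χ := by
    refine Subtype.ext (funext fun g => ?_)
    show (χ : G → ℂ) (g ^ (Nat.card G - 1)) = conj ((χ : G → ℂ) g)
    rw [irr_conjInv]
    refine congrArg (χ : G → ℂ) (eq_inv_of_mul_eq_one_left ?_)
    rw [← pow_succ, Nat.sub_add_cancel hn, pow_card_eq_one']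
  exact e ▸ h

/-- Squares counted by the indicators. -/
theorem card_sqrt_eq (g : G) :
    (Nat.card {u : G // u * u = g} : ℂ) = ∑ χ : IrrCharacter G, nu χ * (χ : G → ℂ) g := by
  classical
  set θ : G → ℂ := fun g => ∑ u : G, if u * u = g then 1 else 0 with hθdef
  have hθ : IsClassFunction G θ := fun g h =>
    Fintype.sum_equiv (MulAut.conj h⁻¹).toEquiv _ _ fun u => if_congr (by
      show u * u = h * g * h⁻¹ ↔ h⁻¹ * u * h⁻¹⁻¹ * (h⁻¹ * u * h⁻¹⁻¹) = g
      constructor
      · intro e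
        rw [show h⁻¹ * u * h⁻¹⁻¹ * (h⁻¹ * u * h⁻¹⁻¹) = h⁻¹ * (u * u) * h by group, e]; group
      · intro e
        rw [← e]; group) rfl rfl
  have hco : ∀ χ : IrrCharacter G, classInner θ (χ : G → ℂ) = conj (nu χ) := fun χ => by
    simp only [classInner, nu, θ, Finset.sum_mul, map_sum, map_mul, map_inv₀, map_natCast]
    rw [Finset.sum_comm]
    simp
  have hreal : ∀ χ : IrrCharacter G, conj (nu χ) = nu χ := by
    intro χ
    rcases nu_cases χ with ⟨-, h | h⟩ | ⟨-, h⟩ <;> simp [h]
  have h1 := congrFun (eq_sum_irr hθ) g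
  simp only [Finset.sum_apply, Pi.smul_apply, smul_eq_mul, hco, hreal] at h1
  rw [← h1, hθdef, Nat.card_eq_fintype_card, Fintype.card_subtype]
  exact (Finset.sum_boole _ _).symm

/-- Square roots inside a section for odd primes. -/
theorem card_sqrt_section (hp : p.Prime) (hodd : p ≠ 2) {z : G} {C : Subgroup G}
    (hc : IsCentr z C) {j : ℕ} (hz : orderOf z = p ^ j) {K : Subgroup C} [K.Normal]
    (hK : ¬ p ∣ Nat.card K) {i : ℕ} (hidx : K.index = p ^ i) :
    Nat.card (Σ k : K, {u : G // u * u = z * ((k : C) : G)}) =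
      Nat.card K := by
  classical
  have h2p : ∀ n : ℕ, Nat.Coprime 2 (p ^ n) := fun n => Nat.Coprime.pow_right _
    ((Nat.coprime_primes Nat.prime_two hp).2 (Ne.symm hodd))
  obtain ⟨m, hm⟩ := exists_pow_eq_self_of_coprime (x := z) (n := 2) (hz ▸ h2p j)
  set t : G := z ^ m
  have ht : t * t = z := by
    show z ^ m * z ^ m = z
    rw [← pow_add, ← two_mul, pow_mul]
    exact hm
  have htC : t ∈ C := (hc _).2 (Commute.pow_self z m)
  have htc : ∀ c : C, Commute t (c : G) := fun c =>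
    (((hc _).1 c.2).pow_right m).symm
  let f : K → Σ k : K, {u : G // u * u = z * ((k : C) : G)} := fun k =>
    ⟨k * k, t * ((k : C) : G), by
      have hck := (htc (k : C)).eq
      calc t * ((k : C) : G) * (t * ((k : C) : G)) = t * (((k : C) : G) * t) * ((k : C) : G) := by
            group
        _ = t * t * (((k : C) : G) * ((k : C) : G)) := by rw [← hck]; group
        _ = _ := by rw [ht]; push_cast; rfl⟩
  refine (Nat.card_congr (Equiv.ofBijective f ⟨fun a b e => ?_, ?_⟩)).symm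
  · have e1 := congrArg (fun s : Σ k : K, {u : G // u * u = z * ((k : C) : G)} => s.2.1) e
    exact Subtype.ext (Subtype.ext (mul_left_cancel e1))
  · rintro ⟨k, u, hu⟩
    have hzk : Commute z ((k : C) : G) :=
      ((hc _).1 (k : C).2).symm
    obtain ⟨n, hn⟩ := exists_pow_eq_self_of_coprime (x := z) (n := Nat.card K)
      (hz ▸ (((hp.coprime_iff_not_dvd.2 hK).pow_left j).symm))
    have hu1 : Commute u z := by
      have h0 : Commute u (z * ((k : C) : G)) := by
        rw [← hu]; exact (Commute.refl u).mul_right (Commute.refl u)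
      have h1 := (h0.pow_right (Nat.card K)).pow_right n
      rwa [hzk.mul_pow, show ((k : C) : G) ^ Nat.card K = 1 from by
        rw [← Subgroup.coe_pow, ← Subgroup.coe_pow, pow_card_eq_one', OneMemClass.coe_one,
          OneMemClass.coe_one], mul_one, hn] at h1
    set w : C := (⟨t, htC⟩ : C)⁻¹ * ⟨u, (hc _).2 hu1⟩
    have hw2 : w * w = (k : C) := by
      refine Subtype.ext ?_
      show t⁻¹ * u * (t⁻¹ * u) = _
      have hcu : u * t⁻¹ = t⁻¹ * u := (hu1.pow_right m).inv_right.eq
      calc t⁻¹ * u * (t⁻¹ * u) = t⁻¹ * (u * t⁻¹) * u := by group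
        _ = t⁻¹ * t⁻¹ * (u * u) := by rw [hcu]; group
        _ = (t * t)⁻¹ * (z * ((k : C) : G)) := by rw [hu]; group
        _ = _ := by rw [ht, inv_mul_cancel_left]
    have hwK : w ∈ K := by
      rw [← QuotientGroup.eq_one_iff, ← orderOf_eq_one_iff]
      refine Nat.eq_one_of_dvd_coprimes (h2p i) (orderOf_dvd_of_pow_eq_one ?_)
        (hidx ▸ Subgroup.index_eq_card K ▸ orderOf_dvd_natCard _)
      rw [pow_two, ← QuotientGroup.mk_mul, hw2, QuotientGroup.eq_one_iff]
      exact k.2
    refine ⟨⟨w, hwK⟩, ?_⟩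
    obtain rfl : (⟨w, hwK⟩ * ⟨w, hwK⟩ : K) = k := Subtype.ext hw2
    refine congrArg (Sigma.mk _) (Subtype.ext ?_)
    show t * (t⁻¹ * u) = u
    exact mul_inv_cancel_left t u

variable [Fact p.Prime]

/-- The sum of a character along the regular part of the section. -/
theorem sum_section (hM : IsPModular p M) {z : G} (hz : ∃ j : ℕ, orderOf z = p ^ j)
    {C : Subgroup G} (hc : IsCentr z C) {K : Subgroup C} [K.Normal] [Fintype K]
    (hK : ¬ p ∣ Nat.card K) {i : ℕ} (hidx : K.index = p ^ i) (χ : IrrCharacter G) :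
    ∑ k : K, (χ : G → ℂ) (z * ((k : C) : G)) =
      (Nat.card K : ℂ) * (ind (principalBlock M G) χ * (χ : G → ℂ) z) := by
  classical
  haveI := Fintype.ofFinite C
  have h1 := sec_eq_overBlocks hM hc hz (principalBlock_isPBlock (M := M)) χ (y := (1 : C))
    (by rw [orderOf_one]; exact hM.1.not_dvd_one)
  rw [overBlocks_principal hM hc hz, OneMemClass.coe_one, mul_one,
    blockPart_regular hM (fun ψ hψ => (eq_blockOf hM principalBlock_isPBlock hψ).ge) _
      (by rw [orderOf_one]; exact hM.1.not_dvd_one)] at h1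
  have hreg := AbelianFree.mem_iff_regular (p := p) hM.1 hK hidx
  have h2 : ∀ c ∈ Finset.univ.filter (fun c : C => ¬ p ∣ orderOf c),
      sec z C (χ : G → ℂ) c * (∑ ψ ∈ bset (principalBlock M C),
        (ψ : C → ℂ) 1 * (ψ : C → ℂ) c⁻¹) = (χ : G → ℂ) (z * (c : G)) * (K.index : ℂ) := by
    intro c hcm
    rw [← sum_sq_kernel K, ← principalBlock_of_complement (G := C) hM hK ⟨i, hidx⟩]
    congr 1
    refine Finset.sum_congr rfl fun ψ hψ => ?_
    have hψ' := mem_bset.1 hψ
    rw [principalBlock_of_complement (G := C) hM hK ⟨i, hidx⟩] at hψ'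
    rw [hψ' _ (K.inv_mem ((hreg c).2 (Finset.mem_filter.1 hcm).2))]
  rw [Finset.sum_congr rfl h2, ← Finset.sum_mul,
    Finset.sum_subtype (Finset.univ.filter (fun c : C => ¬ p ∣ orderOf c)) (p := fun c => c ∈ K)
      (fun c => by simpa using (hreg c).symm),
    show (Nat.card C : ℂ) = (Nat.card K : ℂ) * (K.index : ℂ) by
      rw [← Nat.cast_mul, Subgroup.card_mul_index]] at h1
  rw [← h1]
  have hKc : (Nat.card K : ℂ) ≠ 0 := Nat.cast_ne_zero.2 Nat.card_pos.ne'
  have hi : (K.index : ℂ) ≠ 0 := Nat.cast_ne_zero.2 Subgroup.index_ne_zero_of_finite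
  field_simp

/-- The column of `z`: squares. -/
theorem column_sq (hM : IsPModular p M) {z : G} (hz : ∃ j : ℕ, orderOf z = p ^ j)
    {C : Subgroup G} (hc : IsCentr z C) {K : Subgroup C} [K.Normal]
    (hK : ¬ p ∣ Nat.card K) {i : ℕ} (hidx : K.index = p ^ i) :
    ∑ χ ∈ bset (principalBlock M G), (χ : G → ℂ) z * conj ((χ : G → ℂ) z) = (p : ℂ) ^ i := by
  classical
  haveI := Fintype.ofFinite C
  have h1 := sum_sq_section hM hc hz (principalBlock_isPBlock (M := M) (G := G))
    (y := (1 : C)) (y' := 1)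
    (by rw [orderOf_one]; exact hM.1.not_dvd_one) (by rw [orderOf_one]; exact hM.1.not_dvd_one)
  simp only [OneMemClass.coe_one, mul_one, overBlocks_principal hM hc hz, irr_one_conj] at h1
  rw [h1, principalBlock_of_complement (G := C) hM hK ⟨i, hidx⟩, sum_sq_kernel, hidx, Nat.cast_pow]

/-- The column of `z`: indicators, for odd primes. -/
theorem column_nu (hM : IsPModular p M) (hodd : p ≠ 2) {z : G}
    (hz : ∃ j : ℕ, orderOf z = p ^ j)
    {C : Subgroup G} (hc : IsCentr z C) {K : Subgroup C} [K.Normal]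
    (hK : ¬ p ∣ Nat.card K) {i : ℕ} (hidx : K.index = p ^ i) :
    ∑ χ ∈ bset (principalBlock M G), nu χ * (χ : G → ℂ) z = 1 := by
  classical
  haveI := Fintype.ofFinite K
  obtain ⟨j, hj⟩ := hz
  have h : ((Nat.card (Σ k : K, {u : G // u * u =
      z * ((k : C) : G)}) : ℕ) : ℂ) = (Nat.card K : ℂ) := by
    rw [card_sqrt_section hM.1 hodd hc hj hK hidx]
  rw [Nat.card_sigma, Nat.cast_sum, Finset.sum_congr rfl fun k _ => card_sqrt_eq _,
    Finset.sum_comm] at h
  simp only [← Finset.mul_sum, sum_section hM ⟨j, hj⟩ hc hK hidx] at h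
  have hKc : (Nat.card K : ℂ) ≠ 0 := Nat.cast_ne_zero.2 Nat.card_pos.ne'
  refine mul_left_cancel₀ hKc (Eq.trans ?_ (h.trans (mul_one _).symm))
  rw [← sum_ind_mul, Finset.mul_sum]
  exact Finset.sum_congr rfl fun χ _ => by ring

/-- The column of `z` is orthogonal to the degrees. -/
theorem column_degree (hM : IsPModular p M) {z : G} (hz : ∃ j : ℕ, orderOf z = p ^ j)
    (hz1 : z ≠ 1) :
    ∑ χ ∈ bset (principalBlock M G), (χ : G → ℂ) z * (charDegree (χ : G → ℂ) : ℂ) = 0 := by
  classical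
  refine Eq.trans ?_ (block_orth hM (principalBlock_isPBlock (M := M) (G := G))
    (g := z) (h := 1) (x := z) (y := 1)
    ⟨1, by simp, Commute.one_right _, hz, by rw [orderOf_one]; exact hM.1.not_dvd_one⟩
    ⟨1, by simp, Commute.one_right _, ⟨0, by simp⟩,
      by rw [orderOf_one]; exact hM.1.not_dvd_one⟩
    (fun e => hz1 (isConj_one_left.1 e)))
  refine Finset.sum_congr rfl fun χ _ => ?_
  rw [inv_one, (charDegree_spec' χ.2).1]

end CfsgLib.Blocks.FewChars
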