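import Cfsg.Agent.Lib.Blocks.FewChars.Section
import Cfsg.Agent.Lib.CharTheory.PowerMap

/-!
# Principal blocks with three characters
-/

namespace CfsgLib.Blocks.FewChars

open Cfsg CfsgLib.CharTheory CfsgLib.Blocks
open scoped ComplexConjugate

set_option linter.unusedVariables false
set_option linter.style.haveILetI false
set_option linter.unusedSectionVars false

universe u

variable {p : ℕ} {M : Ideal AlgInt} {G : Type u} [Group G] [Fintype G] [Fact p.Prime]

/-- Data of the central element of a Sylow subgroup. -/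
theorem exists_central_data (hM : IsPModular p M) (P : Sylow p G) (hP : (P : Subgroup G) ≠ ⊥)
    (hl : ∀ x : G, x ≠ 1 → (∃ k : ℕ, orderOf x = p ^ k) → AbPrincipal.lc p M x = 1) :
    ∃ z : G, ∃ j i : ℕ, orderOf z = p ^ j ∧ z ≠ 1 ∧
      ∃ K : Subgroup (Subgroup.centralizer ({z} : Set G)), K.Normal ∧ ¬ p ∣ Nat.card K ∧
        K.index = p ^ i ∧ Nat.card P = p ^ i := by
  classical
  haveI : Nontrivial (P : Subgroup G) := (Subgroup.nontrivial_iff_ne_bot _).2 hP
  haveI := P.2.center_nontrivial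
  obtain ⟨⟨z, hzc⟩, hz1⟩ := exists_ne (1 : Subgroup.center (P : Subgroup G))
  have hz1' : (z : G) ≠ 1 := fun e => hz1 (Subtype.ext (Subtype.ext e))
  obtain ⟨j, hj⟩ := IsPGroup.iff_orderOf.1 P.2 z
  rw [← Subgroup.orderOf_coe] at hj
  set C := Subgroup.centralizer ({(z : G)} : Set G) with hC
  have hle : (P : Subgroup G) ≤ C := fun x hx => Subgroup.mem_centralizer_singleton_iff.2
    (congrArg Subtype.val (Subgroup.mem_center_iff.1 hzc ⟨x, hx⟩))
  haveI := Fintype.ofFinite C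
  obtain ⟨S, K, hKn, hcpl⟩ := AbPrincipal.complement_of_blockRank (G := C) hM
    (hl (z : G) hz1' ⟨j, hj⟩)
  haveI := hKn
  have hK : ¬ p ∣ Nat.card K := by
    rw [← hcpl.index_eq_card]
    exact S.not_dvd_index
  have hidx : K.index = Nat.card S := hcpl.symm.index_eq_card
  obtain ⟨i, hi⟩ := S.2.exists_card_eq
  refine ⟨z, j, i, hj, hz1', K, hKn, hK, hidx.trans hi, ?_⟩
  have e : Nat.card (P : Subgroup G) = Nat.card (P.subtype hle : Subgroup C) := by
    rw [Sylow.coe_subtype]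
    exact (Nat.card_congr (Subgroup.subgroupOfEquivOfLe hle).toEquiv).symm
  rw [← hi, e, Sylow.card_eq_multiplicity, Sylow.card_eq_multiplicity]

/-- A rational column. -/
theorem column_int {z : G} {j : ℕ} (hz : orderOf z = p ^ j)
    (hconj : ∀ g : G, g ≠ 1 → (∃ k : ℕ, orderOf g = p ^ k) → IsConj g z) (hz1 : z ≠ 1)
    (χ : IrrCharacter G) : ∃ a : ℤ, (χ : G → ℂ) z = a := by
  refine rational_int_of_invariant (isCharacter_of_irr χ.2) z fun m hm => ?_
  have hord : orderOf (z ^ m) = p ^ j := by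
    rw [Nat.Coprime.orderOf_pow (hm.coprime_dvd_right (orderOf_dvd_natCard z)).symm, hz]
  have h1 : z ^ m ≠ 1 := fun e => hz1 <| by
    rw [e, orderOf_one] at hord
    exact orderOf_eq_one_iff.1 (hz.trans hord.symm)
  obtain ⟨c, hc⟩ := isConj_iff.1 (hconj _ h1 ⟨j, hord⟩)
  conv_rhs => rw [← hc, irr_isClassFun χ _ c]

theorem sq_add_sq_ne {a b : ℤ} {n : ℕ} (hn : 2 ≤ n) : (1 : ℤ) + a ^ 2 + b ^ 2 ≠ 2 ^ n := by
  intro h
  obtain ⟨m, rfl⟩ : ∃ m, n = m + 2 := ⟨n - 2, by omega⟩
  have h4 := congrArg (fun x : ℤ => (x : ZMod 4)) h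
  push_cast at h4
  rw [pow_add, show (2 : ZMod 4) ^ 2 = 0 from rfl, mul_zero] at h4
  revert h4
  generalize (a : ZMod 4) = x
  generalize (b : ZMod 4) = y
  revert x y
  decide

/-- The arithmetic of three characters. -/
theorem three_arith {a b : ℤ} {f g : ℕ} (hf : 0 < f) (hg : 0 < g) {ν μ : ℤ} {n : ℕ}
    (hn : Odd n) (hsq : (1 : ℤ) + a ^ 2 + b ^ 2 = n) (hdeg : 1 + a * f + b * g = 0)
    (hnu : ν * a + μ * b = 0) (hν : ν = 1 ∨ ν = -1 ∨ ν = 0) (hμ : μ = 1 ∨ μ = -1 ∨ μ = 0)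
    (hsym : ν = 0 → μ = 0 → a = b ∧ f = g) : n = 3 := by
  have heven : Even (a + b) := by
    have h2 : Even (a ^ 2 + b ^ 2) := by
      obtain ⟨k, hk⟩ := hn
      exact ⟨k, by omega⟩
    simpa [Int.even_add, Int.even_pow] using h2
  have hzero : ∀ (x : ℤ) (k : ℕ), Even (0 + x) → 1 + x * (k : ℤ) = 0 → False := by
    intro x k hev hx
    rcases Int.isUnit_iff.1 (isUnit_of_dvd_one (⟨-(k : ℤ), by linarith⟩ : x ∣ 1))
      with rfl | rfl <;> simp at hev
  have ha0 : a ≠ 0 := by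
    rintro rfl
    exact hzero b g heven (by linarith)
  have hb0 : b ≠ 0 := by
    rintro rfl
    exact hzero a f (by rwa [add_comm]) (by linarith)
  have hab : a.natAbs = b.natAbs := by
    by_cases h00 : ν = 0 ∧ μ = 0
    · rw [(hsym h00.1 h00.2).1]
    rcases hν with rfl | rfl | rfl <;> rcases hμ with rfl | rfl | rfl <;> omega
  have ha1 : a = 1 ∨ a = -1 := by
    refine Int.isUnit_iff.1 (isUnit_of_dvd_one ?_)
    rcases Int.natAbs_eq_natAbs_iff.1 hab with e | e
    · exact ⟨-((f : ℤ) + g), by rw [← e] at hdeg; linarith⟩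
    · exact ⟨-((f : ℤ) - g), by rw [show b = -a by omega] at hdeg; linarith⟩
  have hb2 : b ^ 2 = a ^ 2 := by rw [← Int.natAbs_sq, ← hab, Int.natAbs_sq]
  have : (n : ℤ) = 3 := by rw [← hsq, hb2]; rcases ha1 with rfl | rfl <;> norm_num
  exact_mod_cast this

theorem card_sylow_three (hM : IsPModular p M) (hk : Nat.card (principalBlock M G) = 3)
    (P : Sylow p G) : Nat.card P = 3 := by
  classical
  by_cases hl : blockRank p (principalBlock M G) = 1
  · rw [card_sylow_of_rank_one hM hl (by omega) P, hk]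
  have hP : (P : Subgroup G) ≠ ⊥ := by
    intro e
    refine hl (AbPrincipal.blockRank_eq_one hM (hasNormalPComplement_of_coprime
      ((Nat.Prime.coprime_iff_not_dvd (Fact.out : p.Prime)).2 fun hd => ?_).symm))
    have h1 := P.pow_dvd_card_of_pow_dvd_card (n := 1) (by rwa [pow_one])
    rw [pow_one, e, Subgroup.card_bot] at h1
    exact (Fact.out : p.Prime).not_dvd_one h1
  obtain ⟨Y, hY, hrep⟩ := exists_reps p G
  have hcount := count hM Y hY hrep
  have hl0 := blockRank_pos hM (principalBlock_isPBlock (M := M) (G := G))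
  have hYne : Y.Nonempty := by
    obtain ⟨g, hgP, hg1⟩ := (P : Subgroup G).bot_or_exists_ne_one.resolve_left hP
    obtain ⟨k, hk'⟩ := IsPGroup.iff_orderOf.1 P.2 ⟨g, hgP⟩
    obtain ⟨x, ⟨hx, -⟩, -⟩ := hrep g hg1 ⟨k, by rw [← hk', Subgroup.orderOf_mk]⟩
    exact ⟨x, hx⟩
  have hge : Y.card ≤ ∑ x ∈ Y, AbPrincipal.lc p M x := by
    rw [Finset.card_eq_sum_ones]
    exact Finset.sum_le_sum fun x _ => lc_pos hM x
  have hcard : Y.card = 1 := by
    have := hYne.card_pos
    omega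
  obtain ⟨x₀, rfl⟩ := Finset.card_eq_one.1 hcard
  rw [Finset.sum_singleton] at hcount
  have hall : ∀ g : G, g ≠ 1 → (∃ k : ℕ, orderOf g = p ^ k) → IsConj g x₀ := by
    intro g hg1 hg
    obtain ⟨x, ⟨hx, hgx⟩, -⟩ := hrep g hg1 hg
    rwa [Finset.mem_singleton.1 hx] at hgx
  have hlc : ∀ x : G, x ≠ 1 → (∃ k : ℕ, orderOf x = p ^ k) → AbPrincipal.lc p M x = 1 := by
    intro x hx1 hx
    have h2 := count hM {x} (fun y hy => Finset.mem_singleton.1 hy ▸ ⟨hx1, hx⟩)
      (fun g hg1 hg => ⟨x, ⟨Finset.mem_singleton_self x,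
        (hall g hg1 hg).trans (hall x hx1 hx).symm⟩, fun y hy => Finset.mem_singleton.1 hy.1⟩)
    rw [Finset.sum_singleton] at h2
    have := lc_pos (p := p) hM x
    have := lc_pos (p := p) hM x₀
    omega
  obtain ⟨z, j, i, hj, hz1, K, hKn, hK, hidx, hPi⟩ := exists_central_data hM P hP hlc
  haveI := hKn
  haveI := Fintype.ofFinite (Subgroup.centralizer ({z} : Set G))
  have hc : IsCentr z (Subgroup.centralizer ({z} : Set G)) := isCentr_singleton z
  have hconj : ∀ g : G, g ≠ 1 → (∃ k : ℕ, orderOf g = p ^ k) → IsConj g z := fun g hg1 hg =>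
    (hall g hg1 hg).trans (hall z hz1 ⟨j, hj⟩).symm
  have hi0 : i ≠ 0 := fun e => hP (Subgroup.card_eq_one.1 (by rw [hPi, e, pow_zero]))
  -- the three characters
  have hB3 : (bset (principalBlock M G)).card = 3 := by
    rw [← hk, Nat.card_coe_set_eq, Set.ncard_eq_toFinset_card _ (Set.toFinite _)]
    congr 1
  have h1mem : oneIrr G ∈ bset (principalBlock M G) := mem_bset.2 (oneIrr_mem hM)
  obtain ⟨φ, ψ, hne, hBe⟩ := Finset.card_eq_two.1 (show
    ((bset (principalBlock M G)).erase (oneIrr G)).card = 2 by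
      rw [Finset.card_erase_of_mem h1mem, hB3])
  have hexp : ∀ F : IrrCharacter G → ℂ,
      ∑ χ ∈ bset (principalBlock M G), F χ = F (oneIrr G) + (F φ + F ψ) := fun F => by
    rw [← Finset.add_sum_erase _ _ h1mem, hBe, Finset.sum_pair hne]
  obtain ⟨a, ha⟩ := column_int hj hconj hz1 φ
  obtain ⟨b, hb⟩ := column_int hj hconj hz1 ψ
  have h1z : (oneIrr G : G → ℂ) z = 1 := rfl
  have hsq := column_sq hM ⟨j, hj⟩ hc hK hidx
  rw [hexp, h1z, ha, hb, map_one, map_intCast, map_intCast] at hsq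
  have hdeg := column_degree hM ⟨j, hj⟩ hz1
  rw [hexp, h1z, ha, hb, show charDegree (oneIrr G : G → ℂ) = 1 by simp [charDegree, oneIrr]]
    at hdeg
  have hsq' : (1 : ℤ) + a ^ 2 + b ^ 2 = ((p ^ i : ℕ) : ℤ) := by
    have : (((1 : ℤ) + a ^ 2 + b ^ 2 : ℤ) : ℂ) = (((p ^ i : ℕ) : ℤ) : ℂ) := by
      push_cast; linear_combination hsq
    exact_mod_cast this
  have hdeg' : (1 : ℤ) + a * (charDegree (φ : G → ℂ) : ℤ) + b * (charDegree (ψ : G → ℂ) : ℤ) = 0 := by
    have : (((1 : ℤ) + a * (charDegree (φ : G → ℂ) : ℤ) + b * (charDegree (ψ : G → ℂ) : ℤ) : ℤ) : ℂ)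
        = ((0 : ℤ) : ℂ) := by
      push_cast; linear_combination hdeg
    exact_mod_cast this
  have hp := (Fact.out : p.Prime)
  rcases eq_or_ne p 2 with rfl | hodd
  · exfalso
    have hi1 : i = 1 := by
      by_contra h
      exact sq_add_sq_ne (a := a) (b := b) (n := i) (by omega) (by rw [hsq']; push_cast; rfl)
    rw [hi1, pow_one] at hPi
    refine hl (AbPrincipal.blockRank_eq_one hM
      (hasNormalPComplement_of_normalizer_le_centralizer P fun n hn x hx => ?_))
    obtain ⟨g, hgP, hg1⟩ := (P : Subgroup G).bot_or_exists_ne_one.resolve_left hP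
    have hall2 : ∀ y : (P : Subgroup G), y = 1 ∨ y = ⟨g, hgP⟩ := by
      intro y
      by_contra hy
      push Not at hy
      haveI := Fintype.ofFinite (P : Subgroup G)
      have h3 : ({1, ⟨g, hgP⟩, y} : Finset (P : Subgroup G)).card = 3 := by
        rw [Finset.card_insert_of_notMem, Finset.card_pair]
        · exact fun e => hy.2 e.symm
        · simp only [Finset.mem_insert, Finset.mem_singleton, not_or]
          exact ⟨fun e => hg1 (congrArg Subtype.val e).symm, fun e => hy.1 e.symm⟩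
      have := Finset.card_le_univ ({1, ⟨g, hgP⟩, y} : Finset (P : Subgroup G))
      rw [h3, ← Nat.card_eq_fintype_card, hPi] at this
      omega
    have hy := (Subgroup.mem_normalizer_iff.1 hn x).1 hx
    rcases hall2 ⟨x, hx⟩ with e | e
    · obtain rfl : x = 1 := congrArg Subtype.val e
      simp
    · obtain rfl : x = g := congrArg Subtype.val e
      rcases hall2 ⟨_, hy⟩ with e' | e'
      · exact absurd (conj_eq_one_iff.1 (congrArg Subtype.val e')) hg1
      · have e2 : n * x * n⁻¹ = x := congrArg Subtype.val e'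
        exact (mul_inv_eq_iff_eq_mul.1 e2).symm
  have hnu := column_nu hM hodd ⟨j, hj⟩ hc hK hidx
  rw [hexp, h1z, ha, hb, nu_oneIrr, one_mul] at hnu
  have hint : ∀ χ : IrrCharacter G, ∃ ν : ℤ, (ν = 1 ∨ ν = -1 ∨ ν = 0) ∧ nu χ = ν ∧
      (ν = 0 → conjIrr χ ≠ χ) := by
    intro χ
    rcases nu_cases χ with ⟨-, h | h⟩ | ⟨hc', h⟩
    · exact ⟨1, Or.inl rfl, by simp [h], by simp⟩
    · exact ⟨-1, Or.inr (Or.inl rfl), by simp [h], by simp⟩
    · exact ⟨0, Or.inr (Or.inr rfl), by simp [h], fun _ => hc'⟩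
  obtain ⟨ν, hν, hνe, hν0⟩ := hint φ
  obtain ⟨μ, hμ, hμe, hμ0⟩ := hint ψ
  have hnu' : ν * a + μ * b = 0 := by
    have : (((ν * a + μ * b : ℤ)) : ℂ) = ((0 : ℤ) : ℂ) := by
      push_cast; linear_combination hnu - a * hνe - b * hμe
    exact_mod_cast this
  have hdpos : ∀ χ : IrrCharacter G, 0 < charDegree (χ : G → ℂ) := fun χ =>
    (charDegree_spec' χ.2).2
  rw [hPi]
  refine three_arith (hdpos φ) (hdpos ψ) (Odd.pow (hp.odd_of_ne_two hodd)) hsq' hdeg' hnu' hν hμ
    fun h1 h2 => ?_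
  have hmem : conjIrr φ ∈ bset (principalBlock M G) := mem_bset.2 (conjIrr_principal hM (mem_bset.1
    (Finset.mem_of_mem_erase (hBe ▸ Finset.mem_insert_self φ {ψ}))))
  have hne1 : conjIrr φ ≠ oneIrr G := by
    intro e
    have hφe : φ ∈ (bset (principalBlock M G)).erase (oneIrr G) := by
      rw [hBe]; exact Finset.mem_insert_self φ {ψ}
    apply Finset.ne_of_mem_erase hφe
    apply Subtype.ext
    funext g
    have := congrArg (fun χ : IrrCharacter G => (starRingEnd ℂ) ((χ : G → ℂ) g)) e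
    simp only [conjIrr_apply, Complex.conj_conj] at this
    rw [this]
    show conj (1 : ℂ) = 1
    simp
  have hψ : conjIrr φ = ψ := by
    have := Finset.mem_erase.2 ⟨hne1, hmem⟩
    rw [hBe, Finset.mem_insert, Finset.mem_singleton] at this
    exact this.resolve_left (hν0 h1)
  have hab : (a : ℂ) = b := by
    rw [← hb, ← hψ, conjIrr_apply, ha, map_intCast]
  have hfg : (charDegree (φ : G → ℂ) : ℂ) = charDegree (ψ : G → ℂ) := by
    rw [← (charDegree_spec' φ.2).1, ← (charDegree_spec' ψ.2).1, ← hψ, conjIrr_apply, irr_one_conj]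
  exact ⟨by exact_mod_cast hab, by exact_mod_cast hfg⟩

end CfsgLib.Blocks.FewChars
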